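import Cfsg.Agent.Lib.Pres.ShortAlt.Carm

/-!
Lifting permutations to a perfect double cover of an alternating group.
-/

set_option autoImplicit false
set_option linter.unusedSimpArgs false

namespace CfsgLib.AltCover

open scoped commutatorElement
open Equiv CfsgLib.Recog CfsgLib.Pres.ShortAlt

variable {G : Type*} [Group G] {n : ℕ} (φ : G →* alternatingGroup (Fin n))

/-- the double transposition on four given points -/
def dbl {α : Type*} [DecidableEq α] (i j k l : α) : Perm α := swap i j * swap k l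

theorem dbl_mem {i j k l : Fin n} (hij : i ≠ j) (hkl : k ≠ l) : dbl i j k l ∈ alternatingGroup (Fin n) := by
  rw [dbl, Perm.mem_alternatingGroup, map_mul, Perm.sign_swap hij, Perm.sign_swap hkl]
  rfl

theorem conj_dbl {α : Type*} [DecidableEq α] (g : Perm α) (i j k l : α) :
    g * dbl i j k l * g⁻¹ = dbl (g i) (g j) (g k) (g l) := by
  rw [dbl, dbl, show g * (swap i j * swap k l) * g⁻¹ = (g * swap i j * g⁻¹) * (g * swap k l * g⁻¹) by group]
  congr 1 <;> exact (Equiv.swap_apply_apply g _ _).symm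

/-- moving four distinct points to four distinct points -/
theorem exists_perm_four {α : Type*} [DecidableEq α] {i j k l a b c d : α}
    (h : [i, j, k, l].Nodup) (h' : [a, b, c, d].Nodup) :
    ∃ g : Perm α, g i = a ∧ g j = b ∧ g k = c ∧ g l = d := by
  simp only [List.nodup_cons, List.mem_cons, List.mem_nil_iff, or_false, not_or, List.nodup_nil, and_true,
    not_false_eq_true] at h h'
  obtain ⟨⟨hij, hik, hil⟩, ⟨hjk, hjl⟩, hkl⟩ := h
  obtain ⟨⟨hab, hac, had⟩, ⟨hbc, hbd⟩, hcd⟩ := h'
  let g₁ : Perm α := swap i a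
  let g₂ : Perm α := swap (g₁ j) b * g₁
  let g₃ : Perm α := swap (g₂ k) c * g₂
  let g₄ : Perm α := swap (g₃ l) d * g₃
  have e1 : g₁ i = a := swap_apply_left _ _
  have e2i : g₂ i = a := by
    rw [Perm.mul_apply, e1, swap_apply_of_ne_of_ne ?_ hab]
    rw [← e1]; exact fun h => hij (g₁.injective h)
  have e2j : g₂ j = b := swap_apply_left _ _
  have e3i : g₃ i = a := by
    rw [Perm.mul_apply, e2i, swap_apply_of_ne_of_ne ?_ hac]
    rw [← e2i]; exact fun h => hik (g₂.injective h)
  have e3j : g₃ j = b := by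
    rw [Perm.mul_apply, e2j, swap_apply_of_ne_of_ne ?_ hbc]
    rw [← e2j]; exact fun h => hjk (g₂.injective h)
  have e3k : g₃ k = c := swap_apply_left _ _
  refine ⟨g₄, ?_, ?_, ?_, swap_apply_left _ _⟩
  · rw [Perm.mul_apply, e3i, swap_apply_of_ne_of_ne ?_ had]
    rw [← e3i]; exact fun h => hil (g₃.injective h)
  · rw [Perm.mul_apply, e3j, swap_apply_of_ne_of_ne ?_ hbd]
    rw [← e3j]; exact fun h => hjl (g₃.injective h)
  · rw [Perm.mul_apply, e3k, swap_apply_of_ne_of_ne ?_ hcd]
    rw [← e3k]; exact fun h => hkl (g₃.injective h)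

/-- the kernel is a central subgroup of order two -/
structure IsDouble : Prop where
  surj : Function.Surjective φ
  central : φ.ker ≤ Subgroup.center G
  card_two : Nat.card φ.ker = 2

variable {φ}

theorem IsDouble.sq_one (hd : IsDouble φ) {t : G} (ht : φ t = 1) : t * t = 1 := by
  have h : (⟨t, ht⟩ : φ.ker) ^ 2 = 1 := by
    have := pow_card_eq_one' (x := (⟨t, ht⟩ : φ.ker))
    rwa [hd.card_two] at this
  have := congrArg Subtype.val h
  simpa [pow_two] using this

theorem IsDouble.comm_ker (hd : IsDouble φ) {t : G} (ht : φ t = 1) (g : G) : Commute t g :=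
  ((Subgroup.mem_center_iff.1 (hd.central ht)) g).symm

theorem IsDouble.eq_mul (hd : IsDouble φ) {g h : G} (e : φ g = φ h) :
    ∃ t, φ t = 1 ∧ g = h * t := by
  have := hd
  exact ⟨h⁻¹ * g, by rw [map_mul, map_inv, e, inv_mul_cancel], by group⟩

theorem IsDouble.sq_congr (hd : IsDouble φ) {g h : G} (e : φ g = φ h) : g * g = h * h := by
  obtain ⟨t, ht, rfl⟩ := hd.eq_mul e
  rw [show h * t * (h * t) = h * (t * h) * t by group, (hd.comm_ker ht h).eq,
    show h * (h * t) * t = h * h * (t * t) by group, hd.sq_one ht, mul_one]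

theorem IsDouble.sq_central (hd : IsDouble φ) {g : G} (h : φ g * φ g = 1) (x : G) : Commute (g * g) x :=
  hd.comm_ker (by rw [map_mul, h]) x

/-- if the lifts of one four-group commute, all double transpositions lift to involutions -/
theorem sq_dbl_of_commute (hd : IsDouble φ) {i j k l : Fin n} (h : [i, j, k, l].Nodup)
    {U C : G} (hU : (φ U : Perm (Fin n)) = dbl i j k l) (hC : (φ C : Perm (Fin n)) = dbl i k j l)
    (hUC : Commute U C) {V : G} {a b c d : Fin n} (h' : [a, b, c, d].Nodup)
    (hV : (φ V : Perm (Fin n)) = dbl a b c d) : V * V = 1 := by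
  have hnd := h
  simp only [List.nodup_cons, List.mem_cons, List.mem_nil_iff, or_false, not_or, List.nodup_nil, and_true,
    not_false_eq_true] at hnd
  obtain ⟨⟨hij, hik, hil⟩, ⟨hjk, hjl⟩, hkl⟩ := hnd
  -- every double transposition lift has the square of `U`
  have hall : ∀ {a b c d : Fin n}, [a, b, c, d].Nodup → ∀ V : G, (φ V : Perm (Fin n)) = dbl a b c d →
      V * V = U * U := by
    intro a b c d h' V hV
    obtain ⟨g, ga, gb, gc, gd⟩ := exists_perm_four h h'
    have key : ∀ g : Perm (Fin n), Perm.sign g = 1 → g * dbl i j k l * g⁻¹ = dbl a b c d → V * V = U * U := by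
      intro g hg hc
      obtain ⟨W, hW⟩ := hd.surj ⟨g, Perm.mem_alternatingGroup.2 hg⟩
      have e : φ (W * U * W⁻¹) = φ V := by
        apply Subtype.ext
        rw [map_mul, map_mul, map_inv, hW, Subgroup.coe_mul, Subgroup.coe_mul, Subgroup.coe_inv, hU, hV]
        exact hc
      have hUU : φ U * φ U = 1 := by
        apply Subtype.ext
        rw [Subgroup.coe_mul, hU, Subgroup.coe_one, dbl]
        have : Commute (swap i j) (swap k l) :=
          (Perm.disjoint_iff_eq_or_eq.2 fun x => by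
            by_cases hx : x = i ∨ x = j
            · right; rcases hx with rfl | rfl
              · exact swap_apply_of_ne_of_ne hik hil
              · exact swap_apply_of_ne_of_ne hjk hjl
            · left; push Not at hx; exact swap_apply_of_ne_of_ne hx.1 hx.2).commute
        rw [this.symm.mul_mul_mul_comm, swap_mul_self, swap_mul_self, one_mul]
      rw [← hd.sq_congr e, show W * U * W⁻¹ * (W * U * W⁻¹) = W * (U * U) * W⁻¹ by group,
        ← (hd.sq_central hUU W).eq, mul_inv_cancel_right]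
    rcases Int.units_eq_one_or (Perm.sign g) with hg | hg
    · exact key g hg (by rw [conj_dbl, ga, gb, gc, gd])
    · refine key (g * swap i j) (by rw [map_mul, hg, Perm.sign_swap hij]; rfl) ?_
      rw [conj_dbl]
      simp only [Perm.mul_apply, swap_apply_left, swap_apply_right, swap_apply_of_ne_of_ne (Ne.symm hik) (Ne.symm hjk),
        swap_apply_of_ne_of_ne (Ne.symm hil) (Ne.symm hjl), ga, gb, gc, gd]
      rw [dbl, dbl, swap_comm b a]
  have hprod : dbl i j k l * dbl i k j l = dbl i l j k := by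
    ext x
    simp only [dbl, Perm.mul_apply]
    by_cases hxi : x = i
    · subst hxi; simp [swap_apply_def, hij, hik, hil, hjk, hjl, hkl, Ne.symm hij, Ne.symm hik, Ne.symm hil, Ne.symm hjk, Ne.symm hjl, Ne.symm hkl]
    by_cases hxj : x = j
    · subst hxj; simp [swap_apply_def, hij, hik, hil, hjk, hjl, hkl, Ne.symm hij, Ne.symm hik, Ne.symm hil, Ne.symm hjk, Ne.symm hjl, Ne.symm hkl]
    by_cases hxk : x = k
    · subst hxk; simp [swap_apply_def, hij, hik, hil, hjk, hjl, hkl, Ne.symm hij, Ne.symm hik, Ne.symm hil, Ne.symm hjk, Ne.symm hjl, Ne.symm hkl]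
    by_cases hxl : x = l
    · subst hxl; simp [swap_apply_def, hij, hik, hil, hjk, hjl, hkl, Ne.symm hij, Ne.symm hik, Ne.symm hil, Ne.symm hjk, Ne.symm hjl, Ne.symm hkl]
    simp [swap_apply_def, hxi, hxj, hxk, hxl]
  have hC2 : C * C = U * U := hall (by simp [hij, hik, hil, Ne.symm hjk, hjl, hkl]) C hC
  have hUC2 : U * C * (U * C) = U * U := hall (a := i) (b := l) (c := j) (d := k)
    (by simp [hij, hik, hil, hjk, Ne.symm hjl, Ne.symm hkl]) (U * C) (by
      rw [map_mul, Subgroup.coe_mul, hU, hC, hprod])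
  have hU1 : U * U = 1 := by
    rw [hUC.symm.mul_mul_mul_comm, hC2] at hUC2
    exact mul_eq_left.1 hUC2
  rw [hall h' V hV, hU1]

/-- a perfect double cover: the lifts of a four-group do not commute -/
theorem not_commute_four [Finite G] {m : ℕ} {φ : G →* alternatingGroup (Fin (m + 2))} (hd : IsDouble φ)
    (hperf : commutator G = ⊤) (hm : 3 ≤ m) {i j k l : Fin (m + 2)} (h : [i, j, k, l].Nodup) {U C : G}
    (hU : (φ U : Perm (Fin (m + 2))) = dbl i j k l) (hC : (φ C : Perm (Fin (m + 2))) = dbl i k j l) :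
    ¬ Commute U C := by
  intro hUC
  have hz : ∀ a, a < m → ∃ x : G, (φ x : Perm (Fin (m + 2))) = zc m a ∧ x ^ 3 = 1 := by
    intro a ha
    obtain ⟨x, hx⟩ := hd.surj ⟨zc m a, zc_mem ha⟩
    have h3 : φ (x ^ 3) = 1 := by
      apply Subtype.ext
      rw [map_pow, hx, SubmonoidClass.coe_pow, Subgroup.coe_one]
      exact pow_three_swap_mul_swap (pt_ne m (by omega) (by omega) zero_ne_one)
        (pt_ne m (by omega) (by omega) (by omega)) (pt_ne m (by omega) (by omega) (by omega))
    refine ⟨x ^ 4, ?_, ?_⟩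
    · rw [pow_succ, map_mul, h3, one_mul, hx]
    · rw [← pow_mul, show 4 * 3 = 3 + 3 + (3 + 3) by rfl, pow_add, pow_add, hd.sq_one h3, one_mul]
  have key : ∃ z : ℕ → G, ∀ a, a < m → (φ (z a) : Perm (Fin (m + 2))) = zc m a ∧ z a ^ 3 = 1 := by
    classical
    exact ⟨fun a => if ha : a < m then (hz a ha).choose else 1, fun a ha => by
      simp only [dif_pos ha]; exact (hz a ha).choose_spec⟩
  obtain ⟨z, hzs⟩ := key
  have h2 : ∀ a b, a < m → b < m → a ≠ b → (z a * z b) ^ 2 = 1 := by
    intro a b ha hb hab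
    have e : (φ (z a * z b) : Perm (Fin (m + 2))) =
        dbl (pt m 0) (pt m (a + 2)) (pt m 1) (pt m (b + 2)) := by
      have h01 := pt_ne m (show 0 < m + 2 by omega) (show 1 < m + 2 by omega) zero_ne_one
      have h0a := pt_ne m (show 0 < m + 2 by omega) (show a + 2 < m + 2 by omega) (by omega)
      have h1a := pt_ne m (show 1 < m + 2 by omega) (show a + 2 < m + 2 by omega) (by omega)
      have h0b := pt_ne m (show 0 < m + 2 by omega) (show b + 2 < m + 2 by omega) (by omega)
      have h1b := pt_ne m (show 1 < m + 2 by omega) (show b + 2 < m + 2 by omega) (by omega)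
      have hab' := pt_ne m (show a + 2 < m + 2 by omega) (show b + 2 < m + 2 by omega) (by omega)
      rw [map_mul, Subgroup.coe_mul, (hzs a ha).1, (hzs b hb).1, zc, zc, dbl]
      ext x
      rw [Perm.mul_apply, three_apply h01 h0b h1b, three_apply h01 h0a h1a, Perm.mul_apply]
      generalize pt m 0 = A, pt m 1 = B, pt m (a + 2) = P, pt m (b + 2) = Q at *
      simp only [swap_apply_def]
      split_ifs <;> simp_all
    rw [pow_two]
    refine sq_dbl_of_commute hd h hU hC hUC ?_ e
    simp [List.nodup_cons, pt_ne m (show 0 < m + 2 by omega) (show 1 < m + 2 by omega) zero_ne_one,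
      pt_ne m (show 0 < m + 2 by omega) (show a + 2 < m + 2 by omega) (by omega),
      (pt_ne m (show 1 < m + 2 by omega) (show a + 2 < m + 2 by omega) (by omega)).symm,
      pt_ne m (show 0 < m + 2 by omega) (show b + 2 < m + 2 by omega) (by omega),
      pt_ne m (show 1 < m + 2 by omega) (show b + 2 < m + 2 by omega) (by omega),
      pt_ne m (show a + 2 < m + 2 by omega) (show b + 2 < m + 2 by omega) (by omega)]
  obtain ⟨ψ, hψ⟩ := CfsgLib.Pres.ShortAlt.exists_hom (by omega) z (fun a ha => (hzs a ha).2) h2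
  have hsec : ∀ g, φ (ψ g) = g := by
    intro g
    have hle : alternatingGroup (Fin (m + 2)) ≤
        ((φ.comp ψ).eqLocus (MonoidHom.id _)).map (alternatingGroup (Fin (m + 2))).subtype :=
      closure_seq (by omega) ⟨_, (Subtype.ext (by
          show (φ (ψ ⟨zc m 0, zc_mem (by omega)⟩) : Perm (Fin (m + 2))) = zc m 0
          rw [hψ 0 (by omega)]; exact (hzs 0 (by omega)).1) :
          (⟨zc m 0, zc_mem (by omega)⟩ : alternatingGroup (Fin (m + 2))) ∈ (φ.comp ψ).eqLocus (MonoidHom.id _)), rfl⟩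
        fun a ha => ⟨_, (Subtype.ext (by
          have et : (⟨tc m a, tc_mem ha⟩ : alternatingGroup (Fin (m + 2))) =
              ⟨zc m a, zc_mem (by omega)⟩ * (⟨zc m (a + 1), zc_mem ha⟩)⁻¹ * ⟨zc m a, zc_mem (by omega)⟩ :=
            Subtype.ext (tc_eq ha)
          show (φ (ψ ⟨tc m a, tc_mem ha⟩) : Perm (Fin (m + 2))) = tc m a
          rw [et]
          simp only [map_mul, map_inv, hψ a (show a < m by omega), hψ (a + 1) ha, Subgroup.coe_mul,
            Subgroup.coe_inv, (hzs a (show a < m by omega)).1, (hzs (a + 1) ha).1, tc_eq ha]) :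
          (⟨tc m a, tc_mem ha⟩ : alternatingGroup (Fin (m + 2))) ∈ (φ.comp ψ).eqLocus (MonoidHom.id _)), rfl⟩
    obtain ⟨y, hy, ey⟩ := hle g.2
    obtain rfl := Subtype.ext ey
    exact hy
  have hcr : commutator G ≤ ψ.range := by
    rw [commutator_def, Subgroup.commutator_le]
    intro x _ y _
    obtain ⟨t, ht, hx⟩ := hd.eq_mul (hsec (φ x)).symm
    obtain ⟨t', ht', hy⟩ := hd.eq_mul (hsec (φ y)).symm
    refine ⟨⁅φ x, φ y⁆, ?_⟩
    rw [map_commutatorElement]
    generalize ψ (φ x) = X, ψ (φ y) = Y at hx hy ⊢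
    subst hx hy
    simp only [commutatorElement_def, mul_inv_rev]
    have c1 := hd.comm_ker ht
    have c2 := hd.comm_ker ht'
    have e1 : t * (Y * t') * t⁻¹ = Y * t' := by rw [(c1 _).eq, mul_inv_cancel_right]
    have e2 : t' * X⁻¹ * t'⁻¹ = X⁻¹ := by rw [(c2 _).eq, mul_inv_cancel_right]
    rw [show X * t * (Y * t') * (t⁻¹ * X⁻¹) * (t'⁻¹ * Y⁻¹) =
        X * (t * (Y * t') * t⁻¹) * X⁻¹ * t'⁻¹ * Y⁻¹ by group, e1,
      show X * (Y * t') * X⁻¹ * t'⁻¹ * Y⁻¹ = X * Y * (t' * X⁻¹ * t'⁻¹) * Y⁻¹ by group, e2]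
  rw [hperf, top_le_iff] at hcr
  have hinj : Function.Injective φ := by
    intro x y exy
    obtain ⟨u, rfl⟩ : x ∈ ψ.range := by rw [hcr]; trivial
    obtain ⟨v, rfl⟩ : y ∈ ψ.range := by rw [hcr]; trivial
    rw [hsec, hsec] at exy
    rw [exy]
  have h1 : Nat.card φ.ker = 1 := by rw [(MonoidHom.ker_eq_bot_iff φ).2 hinj, Subgroup.card_bot]
  rw [hd.card_two] at h1
  omega

/-- lifts of a double transposition and of a permutation of the other points commute -/
theorem commute_away {φ : G →* alternatingGroup (Fin n)} (hd : IsDouble φ) {i j k l : Fin n}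
    {C : G} (hC : (φ C : Perm (Fin n)) = dbl i k j l) {R : G}
    (hR : ∀ x : Fin n, x = i ∨ x = j ∨ x = k ∨ x = l → (φ R : Perm (Fin n)) x = x) : Commute C R := by
  classical
  let p : Fin n → Prop := fun x => ¬(x = i ∨ x = j ∨ x = k ∨ x = l)
  let K : Subgroup (Perm {x // p x}) :=
    { carrier := {r | ∃ R : G, (φ R : Perm (Fin n)) = Perm.ofSubtype r ∧ Commute C R}
      one_mem' := ⟨1, by simp, Commute.one_right C⟩
      mul_mem' := by
        rintro r s ⟨R, hR, cR⟩ ⟨S, hS, cS⟩
        exact ⟨R * S, by rw [map_mul, Subgroup.coe_mul, hR, hS, map_mul], cR.mul_right cS⟩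
      inv_mem' := by
        rintro r ⟨R, hR, cR⟩
        exact ⟨R⁻¹, by rw [map_inv, Subgroup.coe_inv, hR, map_inv], cR.inv_right⟩ }
  have hthree : ∀ r : Perm {x // p x}, r.IsThreeCycle → r ∈ K := by
    intro r hr
    obtain ⟨R, hR⟩ := hd.surj ⟨Perm.ofSubtype r, by
      rw [Perm.mem_alternatingGroup, Perm.sign_ofSubtype, hr.sign]⟩
    refine ⟨R, by rw [hR], ?_⟩
    have hcomm : φ C * φ R = φ R * φ C := by
      apply Subtype.ext
      rw [hR, Subgroup.coe_mul, Subgroup.coe_mul, hC]
      refine Perm.Disjoint.commute fun x => ?_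
      by_cases hx : p x
      · left
        simp only [p, not_or] at hx
        rw [dbl, Perm.mul_apply, swap_apply_of_ne_of_ne hx.2.1 hx.2.2.2, swap_apply_of_ne_of_ne hx.1 hx.2.2.1]
      · right; exact Perm.ofSubtype_apply_of_not_mem r hx
    have h3 : φ (R * R * R) = 1 := by
      apply Subtype.ext
      rw [map_mul, map_mul, Subgroup.coe_mul, Subgroup.coe_mul, hR, Subgroup.coe_one, ← map_mul, ← map_mul]
      have := pow_orderOf_eq_one r
      rw [hr.orderOf, pow_succ, pow_two] at this
      rw [this, map_one]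
    obtain ⟨t, ht, e⟩ := hd.eq_mul (show φ (C * R * C⁻¹) = φ R by
      rw [map_mul, map_mul, map_inv, hcomm, mul_inv_cancel_right])
    have e3 : R * R * R * (t * t * t) = R * R * R := by
      have hc := hd.comm_ker ht
      calc R * R * R * (t * t * t) = R * t * (R * t) * (R * t) := by
            rw [show R * t * (R * t) * (R * t) = R * (t * R) * (t * (R * t)) by group, (hc _).eq, (hc _).eq]
            group
            simp only [(hc R).eq, mul_assoc]
            rw [← mul_assoc t R, (hc R).eq, mul_assoc]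
        _ = C * (R * R * R) * C⁻¹ := by rw [← e]; group
        _ = R * R * R := by rw [((hd.comm_ker h3) C).symm.eq, mul_inv_cancel_right]
    have ht1 : t = 1 := by
      rwa [mul_eq_left, hd.sq_one ht, one_mul] at e3
    rw [ht1, mul_one] at e
    exact mul_inv_eq_iff_eq_mul.1 e
  obtain ⟨r, hr⟩ : ∃ r : Perm {x // p x}, Perm.ofSubtype r = (φ R : Perm (Fin n)) := by
    have h1 : ∀ x, p ((φ R : Perm (Fin n)) x) ↔ p x := fun x => by
      constructor
      · intro h hx
        exact h (by rw [hR _ hx]; exact hx)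
      · intro h hx
        exact h ((φ R : Perm (Fin n)).injective (hR _ hx) ▸ hx)
    exact ⟨(φ R : Perm (Fin n)).subtypePerm h1, Perm.ofSubtype_subtypePerm h1 fun x hx hp => hx (hR x hp)⟩
  have hmem : r ∈ K := by
    have hle : alternatingGroup {x // p x} ≤ K := by
      rw [← Perm.closure_three_cycles_eq_alternating, Subgroup.closure_le]
      exact hthree
    apply hle
    rw [Perm.mem_alternatingGroup, ← Perm.sign_ofSubtype, hr]
    exact (φ R).2
  obtain ⟨S, hS, cS⟩ := hmem
  obtain ⟨t, ht, rfl⟩ := hd.eq_mul (show φ R = φ S from Subtype.ext (by rw [hS, hr]))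
  exact cS.mul_right (hd.comm_ker ht C).symm

/-- both lifts of a commutator with a permutation having two transpositions are commutators -/
theorem lifts_commutators [Finite G] {m : ℕ} {φ : G →* alternatingGroup (Fin (m + 2))} (hd : IsDouble φ)
    (hperf : commutator G = ⊤) (hm : 3 ≤ m) {i j k l : Fin (m + 2)} (h : [i, j, k, l].Nodup)
    {π α : alternatingGroup (Fin (m + 2))}
    (hij : (α : Perm (Fin (m + 2))) i = j) (hji : (α : Perm (Fin (m + 2))) j = i)
    (hkl : (α : Perm (Fin (m + 2))) k = l) (hlk : (α : Perm (Fin (m + 2))) l = k)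
    {g : G} (hg : φ g = π * α * π⁻¹ * α⁻¹) : ∃ a b : G, a * b * a⁻¹ * b⁻¹ = g := by
  have hnd := h
  simp only [List.nodup_cons, List.mem_cons, List.mem_nil_iff, or_false, not_or, List.nodup_nil, and_true,
    not_false_eq_true] at hnd
  obtain ⟨⟨dij, dik, dil⟩, ⟨djk, djl⟩, dkl⟩ := hnd
  obtain ⟨U, hU⟩ := hd.surj ⟨dbl i j k l, dbl_mem dij dkl⟩
  obtain ⟨C, hC⟩ := hd.surj ⟨dbl i k j l, dbl_mem dik djl⟩
  replace hU : (φ U : Perm (Fin (m + 2))) = dbl i j k l := by rw [hU]
  replace hC : (φ C : Perm (Fin (m + 2))) = dbl i k j l := by rw [hC]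
  obtain ⟨B, hB⟩ := hd.surj α
  obtain ⟨A, hA⟩ := hd.surj π
  have hR : Commute C (U⁻¹ * B) := by
    refine commute_away (i := i) (j := j) (k := k) (l := l) hd hC fun x hx => ?_
    rw [map_mul, map_inv, Subgroup.coe_mul, Subgroup.coe_inv, hU, hB, Perm.mul_apply, Perm.inv_eq_iff_eq]
    have u : dbl i j k l i = j ∧ dbl i j k l j = i ∧ dbl i j k l k = l ∧ dbl i j k l l = k := by
      refine ⟨?_, ?_, ?_, ?_⟩ <;> simp [dbl, swap_apply_def, dij, dik, dil, djk, djl, dkl, Ne.symm dij,
        Ne.symm dik, Ne.symm dil, Ne.symm djk, Ne.symm djl, Ne.symm dkl]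
    rcases hx with rfl | rfl | rfl | rfl
    · rw [hij, u.1]
    · rw [hji, u.2.1]
    · rw [hkl, u.2.2.1]
    · rw [hlk, u.2.2.2]
  have hne : ¬ Commute C B := fun hc => by
    have := hc.mul_right hR.inv_right
    rw [mul_inv_rev, inv_inv, ← mul_assoc, mul_inv_cancel, one_mul] at this
    exact not_commute_four hd hperf hm h hU hC this.symm
  set t : G := C * B * C⁻¹ * B⁻¹ with ht
  have hαc : φ C * φ B = φ B * φ C := by
    rw [show φ B = φ U * φ (U⁻¹ * B) by rw [map_mul, map_inv, mul_inv_cancel_left]]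
    have h1 : φ C * φ U = φ U * φ C := by
      apply Subtype.ext
      rw [Subgroup.coe_mul, Subgroup.coe_mul, hU, hC]
      ext x
      simp only [dbl, Perm.mul_apply]
      by_cases hxi : x = i
      · subst hxi; simp [swap_apply_def, dij, dik, dil, djk, djl, dkl, Ne.symm dij, Ne.symm dik, Ne.symm dil, Ne.symm djk, Ne.symm djl, Ne.symm dkl]
      by_cases hxj : x = j
      · subst hxj; simp [swap_apply_def, dij, dik, dil, djk, djl, dkl, Ne.symm dij, Ne.symm dik, Ne.symm dil, Ne.symm djk, Ne.symm djl, Ne.symm dkl]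
      by_cases hxk : x = k
      · subst hxk; simp [swap_apply_def, dij, dik, dil, djk, djl, dkl, Ne.symm dij, Ne.symm dik, Ne.symm dil, Ne.symm djk, Ne.symm djl, Ne.symm dkl]
      by_cases hxl : x = l
      · subst hxl; simp [swap_apply_def, dij, dik, dil, djk, djl, dkl, Ne.symm dij, Ne.symm dik, Ne.symm dil, Ne.symm djk, Ne.symm djl, Ne.symm dkl]
      simp [swap_apply_def, hxi, hxj, hxk, hxl]
    rw [← mul_assoc, h1, mul_assoc, mul_assoc, ← map_mul, hR.eq, map_mul]
  have ht1 : φ t = 1 := by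
    rw [ht, map_mul, map_mul, map_mul, map_inv, map_inv, hαc, mul_inv_cancel_right, mul_inv_cancel]
  have htne : t ≠ 1 := by
    intro e
    rw [ht, mul_inv_eq_one, mul_inv_eq_iff_eq_mul] at e
    exact hne e
  obtain ⟨s, hs, e⟩ := hd.eq_mul (show φ g = φ (A * B * A⁻¹ * B⁻¹) by
    rw [hg, map_mul, map_mul, map_mul, map_inv, map_inv, hA, hB])
  by_cases hs1 : s = 1
  · exact ⟨A, B, by rw [e, hs1, mul_one]⟩
  · have hst : s = t := by
      obtain ⟨x, y, hxy, hu⟩ := Nat.card_eq_two_iff.1 hd.card_two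
      have key : ∀ w : φ.ker, w = x ∨ w = y := fun w => by
        have := Set.eq_univ_iff_forall.1 hu w
        simpa using this
      have h1 : (⟨1, map_one φ⟩ : φ.ker) = x ∨ (⟨1, map_one φ⟩ : φ.ker) = y := key _
      rcases key ⟨s, hs⟩ with a | a <;> rcases key ⟨t, ht1⟩ with b | b <;> rcases h1 with c | c <;>
        first
        | exact congrArg Subtype.val (a.trans b.symm)
        | exact absurd (congrArg Subtype.val (a.trans c.symm)) hs1
        | exact absurd (congrArg Subtype.val (b.trans c.symm)) htne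
    refine ⟨A * C, B, ?_⟩
    rw [e, hst]
    calc A * C * B * (A * C)⁻¹ * B⁻¹ = A * t * (B * A⁻¹ * B⁻¹) := by rw [ht]; group
      _ = A * B * A⁻¹ * B⁻¹ * t := by rw [mul_assoc A t, (hd.comm_ker ht1 _).eq]; group

end CfsgLib.AltCover
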