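import Mathlib

/-!
Even permutations as commutators with a permutation having two transpositions.
-/

set_option autoImplicit false
set_option linter.unusedSimpArgs false

namespace CfsgLib.AltCover

open Equiv Multiset

variable {α β : Type*} [Fintype α] [DecidableEq α] [Fintype β] [DecidableEq β]

/-- the cycle lengths with fixed points counted -/
def parts (σ : Perm α) : Multiset ℕ :=
  σ.cycleType + replicate (Fintype.card α - σ.support.card) 1

theorem cycleType_sumCongr_left (σ : Perm α) :
    (Perm.sumCongr σ (1 : Perm β)).cycleType = σ.cycleType := by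
  let f : α ≃ Subtype (fun x : α ⊕ β => x.isLeft = true) :=
    { toFun := fun a => ⟨Sum.inl a, rfl⟩
      invFun := fun x => x.1.getLeft x.2
      left_inv := fun a => rfl
      right_inv := fun x => by ext; exact Sum.inl_getLeft x.1 x.2 }
  have : Perm.sumCongr σ (1 : Perm β) = σ.extendDomain f := by
    ext x
    rcases x with a | b
    · rw [show (Sum.inl a : α ⊕ β) = (f a : α ⊕ β) from rfl, Perm.extendDomain_apply_image]
      rfl
    · rw [Perm.extendDomain_apply_not_subtype σ f (by simp)]
      rfl
  rw [this, Perm.cycleType_extendDomain]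

theorem cycleType_sumCongr_right (τ : Perm β) :
    (Perm.sumCongr (1 : Perm α) τ).cycleType = τ.cycleType := by
  let f : β ≃ Subtype (fun x : α ⊕ β => x.isRight = true) :=
    { toFun := fun a => ⟨Sum.inr a, rfl⟩
      invFun := fun x => x.1.getRight x.2
      left_inv := fun a => rfl
      right_inv := fun x => by ext; exact Sum.inr_getRight x.1 x.2 }
  have : Perm.sumCongr (1 : Perm α) τ = τ.extendDomain f := by
    ext x
    rcases x with a | b
    · rw [Perm.extendDomain_apply_not_subtype τ f (by simp)]
      rfl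
    · rw [show (Sum.inr b : α ⊕ β) = (f b : α ⊕ β) from rfl, Perm.extendDomain_apply_image]
      rfl
  rw [this, Perm.cycleType_extendDomain]

theorem cycleType_sumCongr (σ : Perm α) (τ : Perm β) :
    (Perm.sumCongr σ τ).cycleType = σ.cycleType + τ.cycleType := by
  have h : Perm.sumCongr σ τ = Perm.sumCongr σ 1 * Perm.sumCongr 1 τ := by
    rw [Perm.sumCongr_mul, mul_one, one_mul]
  have hd : (Perm.sumCongr σ (1 : Perm β)).Disjoint (Perm.sumCongr (1 : Perm α) τ) := fun x => by
    rcases x with a | b
    · exact Or.inr rfl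
    · exact Or.inl rfl
  rw [h, hd.cycleType_mul, cycleType_sumCongr_left, cycleType_sumCongr_right]

theorem parts_sumCongr (σ : Perm α) (τ : Perm β) :
    parts (Perm.sumCongr σ τ) = parts σ + parts τ := by
  have h1 : (Perm.sumCongr σ τ).support.card = σ.support.card + τ.support.card := by
    rw [← Perm.sum_cycleType, ← Perm.sum_cycleType, ← Perm.sum_cycleType, cycleType_sumCongr, sum_add]
  have h2 := σ.support.card_le_univ
  have h3 := τ.support.card_le_univ
  rw [parts, parts, parts, cycleType_sumCongr, h1, Fintype.card_sum,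
    show Fintype.card α + Fintype.card β - (σ.support.card + τ.support.card) =
      (Fintype.card α - σ.support.card) + (Fintype.card β - τ.support.card) by omega, replicate_add]
  abel

/-- `a` and `σ * a` have given cycle types, `σ` given cycle lengths -/
def Pat (μ A B : Multiset ℕ) : Prop :=
  ∃ (T : Type) (_ : Fintype T) (_ : DecidableEq T) (σ a : Perm T),
    parts σ = μ ∧ a.cycleType = A ∧ (σ * a).cycleType = B

theorem Pat.add {μ ν A B C D : Multiset ℕ} (h : Pat μ A B) (h' : Pat ν C D) :
    Pat (μ + ν) (A + C) (B + D) := by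
  obtain ⟨T, _, _, σ, a, rfl, rfl, rfl⟩ := h
  obtain ⟨U, _, _, τ, b, rfl, rfl, rfl⟩ := h'
  exact ⟨T ⊕ U, inferInstance, inferInstance, Perm.sumCongr σ τ, Perm.sumCongr a b, parts_sumCongr σ τ,
    cycleType_sumCongr a b, by rw [Perm.sumCongr_mul, cycleType_sumCongr]⟩

theorem Pat.symm {μ A B : Multiset ℕ} (h : Pat μ A B) : Pat μ B A := by
  obtain ⟨T, _, _, σ, a, rfl, rfl, rfl⟩ := h
  refine ⟨T, inferInstance, inferInstance, σ⁻¹, σ * a, ?_, rfl, by rw [inv_mul_cancel_left]⟩
  rw [parts, parts, Perm.cycleType_inv, Perm.support_inv]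

theorem pat_one : Pat {1} 0 0 :=
  ⟨Fin 1, inferInstance, inferInstance, 1, 1, by simp [parts], by simp, by simp⟩

theorem pat_zero : Pat 0 0 0 :=
  ⟨Fin 0, inferInstance, inferInstance, 1, 1, by simp [parts], by simp, by simp⟩

/-- the cycle type of an involution -/
theorem cycleType_of_mul_self {a : Perm α} (ha : a * a = 1) {m : ℕ} (hm : a.support.card = 2 * m) :
    a.cycleType = replicate m 2 := by
  have h2 : ∀ x ∈ a.cycleType, x = 2 := fun x hx => by
    have d := (Perm.dvd_of_mem_cycleType hx).trans (orderOf_dvd_of_pow_eq_one (n := 2) (by rw [pow_two, ha]))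
    have := Nat.le_of_dvd (by norm_num) d
    have := Perm.two_le_of_mem_cycleType hx
    omega
  have h := eq_replicate_card.2 h2
  rw [h]
  congr 1
  have hs := Perm.sum_cycleType a
  rw [h, sum_replicate, smul_eq_mul, hm] at hs
  omega

/-- composing an involution with a transposition joining two of its transpositions -/
theorem cycleType_mul_swap {a : Perm α} (ha : a * a = 1) {p q : α} (hp : a p ≠ p) (hq : a q ≠ q)
    (hpq : p ≠ q) (hpq' : a p ≠ q) {m : ℕ} (hm : a.support.card = 2 * (m + 2)) :
    (a * swap p q).cycleType = 4 ::ₘ replicate m 2 := by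
  have hinv : ∀ x, a (a x) = x := fun x => by rw [← Perm.mul_apply, ha, Perm.one_apply]
  have hqp : a q ≠ p := fun h => hpq' (by rw [← h, hinv])
  have hne : a p ≠ a q := fun h => hpq (a.injective h)
  let f : Fin 4 → α := ![p, a q, q, a p]
  have hf : Function.Injective f := by
    intro x y h
    fin_cases x <;> fin_cases y <;> simp [f] at h ⊢ <;>
      first | exact hqp h.symm | exact hpq h | exact hp h.symm | exact hqp h | exact hpq h.symm |
        exact hp h | exact hq h | exact hne h.symm | exact hq h.symm | exact hpq' h.symm | exact hpq' h |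
        exact hne h
  let e : Fin 4 ≃ Subtype (fun x => x ∈ Set.range f) := Equiv.ofInjective f hf
  let c : Perm α := (finRotate 4).extendDomain e
  have hc : c.cycleType = {4} := by rw [Perm.cycleType_extendDomain]; exact cycleType_finRotate
  have hcapp : ∀ i, c (f i) = f (finRotate 4 i) := fun i => by
    show (finRotate 4).extendDomain e (e i : α) = _
    rw [Perm.extendDomain_apply_image]; rfl
  have hcout : ∀ x, x ∉ Set.range f → c x = x := fun x hx => Perm.extendDomain_apply_not_subtype _ _ hx
  let g : Perm α := a * (swap p (a p) * swap q (a q))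
  have hgval : ∀ x, g x = if x = p ∨ x = a p ∨ x = q ∨ x = a q then x else a x := fun x => by
    simp only [g, Perm.mul_apply]
    by_cases h1 : x = p
    · subst h1; rw [swap_apply_of_ne_of_ne hpq hqp.symm, swap_apply_left, hinv, if_pos (Or.inl rfl)]
    by_cases h2 : x = a p
    · subst h2; rw [swap_apply_of_ne_of_ne hpq' hne, swap_apply_right, if_pos (Or.inr (Or.inl rfl))]
    by_cases h3 : x = q
    · subst h3; rw [swap_apply_left, swap_apply_of_ne_of_ne hqp hne.symm, hinv, if_pos (by simp)]
    by_cases h4 : x = a q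
    · subst h4; rw [swap_apply_right, swap_apply_of_ne_of_ne hpq.symm (Ne.symm hpq'), if_pos (by simp)]
    rw [swap_apply_of_ne_of_ne h3 h4, swap_apply_of_ne_of_ne h1 h2, if_neg (by simp [h1, h2, h3, h4])]
  have hrange : ∀ x, x ∈ Set.range f ↔ (x = p ∨ x = a p ∨ x = q ∨ x = a q) := fun x => by
    constructor
    · rintro ⟨i, rfl⟩; fin_cases i <;> simp [f]
    · rintro (rfl | rfl | rfl | rfl)
      · exact ⟨0, rfl⟩
      · exact ⟨3, rfl⟩
      · exact ⟨2, rfl⟩
      · exact ⟨1, rfl⟩
  have hdis : c.Disjoint g := fun x => by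
    by_cases hx : x ∈ Set.range f
    · right; rw [hgval, if_pos ((hrange x).1 hx)]
    · left; exact hcout x hx
  have heq : a * swap p q = c * g := by
    ext x
    rw [Perm.mul_apply, Perm.mul_apply, hgval]
    by_cases hx : x ∈ Set.range f
    · rw [if_pos ((hrange x).1 hx)]
      obtain ⟨i, rfl⟩ := hx
      rw [hcapp]
      have r0 : finRotate 4 (0 : Fin 4) = 1 := by decide
      have r1 : finRotate 4 (1 : Fin 4) = 2 := by decide
      have r2 : finRotate 4 (2 : Fin 4) = 3 := by decide
      have r3 : finRotate 4 (3 : Fin 4) = 0 := by decide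
      fin_cases i <;> simp [f, r0, r1, r2, r3, swap_apply_def, hinv, hp, hq, hpq, hpq', hqp, hne,
        Ne.symm hpq]
    · have hx' := hx
      rw [hrange, not_or, not_or, not_or] at hx'
      rw [swap_apply_of_ne_of_ne hx'.1 hx'.2.2.1, if_neg (by simp [hx'])]
      refine (hcout _ fun h => ?_).symm
      rcases (hrange _).1 h with h | h | h | h
      · exact hx'.2.1 (by rw [← h, hinv])
      · exact hx'.1 (a.injective h)
      · exact hx'.2.2.2 (by rw [← h, hinv])
      · exact hx'.2.2.1 (a.injective h)
  have hg2 : g * g = 1 := by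
    ext x
    rw [Perm.mul_apply, Perm.one_apply, hgval x]
    split_ifs with h
    · rw [hgval, if_pos h]
    · rw [hgval, if_neg, hinv]
      simp only [not_or] at h ⊢
      exact ⟨fun e => h.2.1 (by rw [← e, hinv]), fun e => h.1 (a.injective e),
        fun e => h.2.2.2 (by rw [← e, hinv]), fun e => h.2.2.1 (a.injective e)⟩
  have hgs : g.support.card = 2 * m := by
    have hsub : ({p, a p, q, a q} : Finset α) ⊆ a.support := by
      intro x hx
      simp only [Finset.mem_insert, Finset.mem_singleton] at hx
      rw [Perm.mem_support]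
      rcases hx with rfl | rfl | rfl | rfl
      · exact hp
      · exact fun h => hp (a.injective h)
      · exact hq
      · exact fun h => hq (a.injective h)
    have : g.support = a.support \ {p, a p, q, a q} := by
      ext x
      rw [Finset.mem_sdiff, Perm.mem_support, Perm.mem_support, hgval]
      simp only [Finset.mem_insert, Finset.mem_singleton]
      split_ifs with h <;> tauto
    rw [this, Finset.card_sdiff_of_subset hsub, hm]
    have : ({p, a p, q, a q} : Finset α).card = 4 := by
      rw [Finset.card_insert_of_notMem (by simp [Ne.symm hp, hpq, Ne.symm hqp]),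
        Finset.card_insert_of_notMem (by simp [hpq', hne]),
        Finset.card_insert_of_notMem (by simp [Ne.symm hq]), Finset.card_singleton]
    omega
  rw [heq, hdis.cycleType_mul, hc, cycleType_of_mul_self hg2 hgs, singleton_add]

/-- the reflection fixing zero -/
def refl0 (m : ℕ) : Perm (Fin (m + 1)) := Equiv.neg (Fin (m + 1))

theorem refl0_sq (m : ℕ) : refl0 m * refl0 m = 1 := by
  ext x; simp [refl0]

theorem rot_refl_sq (m : ℕ) : finRotate (m + 1) * refl0 m * (finRotate (m + 1) * refl0 m) = 1 := by
  ext x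
  simp [refl0, finRotate_apply]

theorem refl0_val (m : ℕ) (x : Fin (m + 1)) :
    (refl0 m x).val = if x.val = 0 then 0 else m + 1 - x.val := by
  simp only [refl0, Equiv.neg_apply, Fin.val_neg]
  split_ifs with h1 h2 h2 <;> simp only [Fin.ext_iff, Fin.val_zero] at * <;> omega

theorem rot_val (m : ℕ) (x : Fin (m + 1)) :
    (finRotate (m + 1) x).val = if x.val = m then 0 else x.val + 1 := by
  rw [finRotate_apply, Fin.val_add_one]
  split_ifs with h1 h2 h2 <;> simp_all [Fin.ext_iff, Fin.val_last]

theorem parts_rotate (m : ℕ) : parts (finRotate (m + 2)) = {m + 2} := by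
  have h : (finRotate (m + 2)).support.card = m + 2 := by
    rw [← Perm.sum_cycleType, cycleType_finRotate, sum_singleton]
  rw [parts, cycleType_finRotate, h, Fintype.card_fin, Nat.sub_self, replicate_zero, add_zero]

theorem odd_supports (r : ℕ) :
    (refl0 (2 * r + 2)).support.card = 2 * (r + 1) ∧
    (finRotate (2 * r + 3) * refl0 (2 * r + 2)).support.card = 2 * (r + 1) := by
  constructor
  · have : (refl0 (2 * r + 2)).support = {(0 : Fin (2 * r + 3))}ᶜ := by
      ext x
      rw [Perm.mem_support, Finset.mem_compl, Finset.mem_singleton, Ne, Fin.ext_iff, Fin.ext_iff, refl0_val]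
      have := x.isLt
      simp only [Fin.val_zero]
      split_ifs with h <;> omega
    rw [this, Finset.card_compl, Finset.card_singleton, Fintype.card_fin]; omega
  · have : (finRotate (2 * r + 3) * refl0 (2 * r + 2)).support = {(⟨r + 2, by omega⟩ : Fin (2 * r + 3))}ᶜ := by
      ext x
      rw [Perm.mem_support, Finset.mem_compl, Finset.mem_singleton, Ne, Fin.ext_iff, Fin.ext_iff,
        Perm.mul_apply, rot_val, refl0_val]
      have := x.isLt
      simp only [Fin.val_mk]
      split_ifs <;> (first | omega | contradiction | exact id | (simp_all <;> omega))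
    rw [this, Finset.card_compl, Finset.card_singleton, Fintype.card_fin]; omega

theorem even_supports (j : ℕ) :
    (refl0 (2 * j + 1)).support.card = 2 * j ∧
    (finRotate (2 * j + 2) * refl0 (2 * j + 1)).support.card = 2 * (j + 1) := by
  constructor
  · have : (refl0 (2 * j + 1)).support = {(0 : Fin (2 * j + 2)), ⟨j + 1, by omega⟩}ᶜ := by
      ext x
      rw [Perm.mem_support, Finset.mem_compl, Finset.mem_insert, Finset.mem_singleton, Ne, Fin.ext_iff,
        Fin.ext_iff, Fin.ext_iff, refl0_val]
      have := x.isLt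
      simp only [Fin.val_zero, Fin.val_mk]
      split_ifs <;> (first | omega | contradiction | exact id | (simp_all <;> omega))
    rw [this, Finset.card_compl, Finset.card_insert_of_notMem (by simp [Fin.ext_iff]), Finset.card_singleton,
      Fintype.card_fin]
    omega
  · have : (finRotate (2 * j + 2) * refl0 (2 * j + 1)).support = Finset.univ := by
      ext x
      simp only [Perm.mem_support, Finset.mem_univ, iff_true, Ne, Fin.ext_iff, Perm.mul_apply, rot_val, refl0_val]
      have := x.isLt
      split_ifs <;> (first | omega | contradiction | exact id | (simp_all <;> omega))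
    rw [this, Finset.card_univ, Fintype.card_fin]; omega

/-- an odd cycle as a product of two reflections -/
theorem pat_odd (r : ℕ) : Pat {2 * r + 3} (replicate (r + 1) 2) (replicate (r + 1) 2) :=
  ⟨Fin (2 * r + 3), inferInstance, inferInstance, finRotate (2 * r + 3), refl0 (2 * r + 2),
    parts_rotate (2 * r + 1), cycleType_of_mul_self (refl0_sq _) (odd_supports r).1,
    cycleType_of_mul_self (rot_refl_sq _) (odd_supports r).2⟩

/-- an even cycle as a product of two reflections -/
theorem pat_even (j : ℕ) : Pat {2 * j + 2} (replicate j 2) (replicate (j + 1) 2) :=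
  ⟨Fin (2 * j + 2), inferInstance, inferInstance, finRotate (2 * j + 2), refl0 (2 * j + 1),
    parts_rotate (2 * j), cycleType_of_mul_self (refl0_sq _) (even_supports j).1,
    cycleType_of_mul_self (rot_refl_sq _) (even_supports j).2⟩

/-- the general flip of a long cycle -/
theorem flip_aux (m A B : ℕ) (hm : 5 ≤ m) (hA : (refl0 m).support.card = 2 * (A + 2))
    (hB : (finRotate (m + 1) * refl0 m).support.card = 2 * (B + 2)) :
    Pat {m + 1} (4 ::ₘ replicate A 2) (4 ::ₘ replicate B 2) := by
  let p : Fin (m + 1) := ⟨1, by omega⟩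
  let q : Fin (m + 1) := ⟨m - 1, by omega⟩
  refine ⟨Fin (m + 1), inferInstance, inferInstance, finRotate (m + 1), refl0 m * swap p q, ?_, ?_, ?_⟩
  · obtain ⟨k, rfl⟩ := Nat.exists_eq_add_of_le (show 1 ≤ m by omega)
    rw [show 1 + k + 1 = k + 2 by omega]
    exact parts_rotate k
  · refine cycleType_mul_swap (refl0_sq m) ?_ ?_ ?_ ?_ hA <;>
      simp only [Ne, Fin.ext_iff, refl0_val, p, q] <;> (try split_ifs) <;> (first | omega | contradiction | exact id | (simp_all <;> omega))
  · rw [← mul_assoc]
    refine cycleType_mul_swap (rot_refl_sq m) ?_ ?_ ?_ ?_ hB <;>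
      simp only [Ne, Fin.ext_iff, Perm.mul_apply, rot_val, refl0_val, p, q] <;> (try split_ifs) <;> (first | omega | contradiction | exact id | (simp_all <;> omega))

theorem pat_odd_flip (r : ℕ) :
    Pat {2 * r + 7} (4 ::ₘ replicate (r + 1) 2) (4 ::ₘ replicate (r + 1) 2) :=
  flip_aux (2 * r + 6) (r + 1) (r + 1) (by omega) (odd_supports (r + 2)).1 (odd_supports (r + 2)).2

theorem pat_even_flip (j : ℕ) :
    Pat {2 * j + 6} (4 ::ₘ replicate j 2) (4 ::ₘ replicate (j + 1) 2) :=
  flip_aux (2 * j + 5) j (j + 1) (by omega) (even_supports (j + 2)).1 (even_supports (j + 2)).2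

/-- two equal cycles interchanged -/
theorem pat_pair (k : ℕ) (hk : 1 ≤ k) : Pat {k, k} (replicate k 2) (replicate k 2) := by
  obtain ⟨m, rfl⟩ := Nat.exists_eq_add_of_le hk
  rw [Nat.add_comm 1 m]
  let sw : Perm (Fin (m + 1) ⊕ Fin (m + 1)) :=
    Perm.sumCongr (refl0 m) (refl0 m) * Equiv.sumComm (Fin (m + 1)) (Fin (m + 1))
  refine ⟨Fin (m + 1) ⊕ Fin (m + 1), inferInstance, inferInstance,
    Perm.sumCongr (finRotate (m + 1)) (finRotate (m + 1)), sw, ?_, ?_, ?_⟩
  · rw [parts_sumCongr]
    rcases m with _ | k
    · have : finRotate (0 + 1) = 1 := by ext x; omega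
      rw [this]; simp [parts]
    · rw [parts_rotate]; simp
  · refine cycleType_of_mul_self ?_ ?_
    · ext x; rcases x with x | x <;> simp [sw, refl0]
    · have : sw.support = Finset.univ := by
        ext x; rcases x with x | x <;> simp [sw]
      rw [this, Finset.card_univ, Fintype.card_sum, Fintype.card_fin]; omega
  · refine cycleType_of_mul_self ?_ ?_
    · ext x; rcases x with x | x <;> simp [sw, refl0, finRotate_apply]
    · have : (Perm.sumCongr (finRotate (m + 1)) (finRotate (m + 1)) * sw).support = Finset.univ := by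
        ext x; rcases x with x | x <;> simp [sw]
      rw [this, Finset.card_univ, Fintype.card_sum, Fintype.card_fin]; omega

theorem pat_seven : Pat {7} {3, 2, 2} {3, 2, 2} := by
  refine ⟨Fin 7, inferInstance, inferInstance, finRotate 7,
    ⟨![1, 4, 6, 5, 0, 3, 2], ![4, 0, 6, 5, 1, 3, 2], by decide, by decide⟩, parts_rotate 5, ?_, ?_⟩ <;>
    decide +kernel

theorem pat_two_six : Pat {2, 6} {3, 2, 2} {3, 2, 2} := by
  refine ⟨Fin 8, inferInstance, inferInstance,
    ⟨![1, 0, 3, 4, 5, 6, 7, 2], ![1, 0, 7, 2, 3, 4, 5, 6], by decide, by decide⟩,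
    ⟨![0, 2, 3, 1, 7, 6, 5, 4], ![0, 3, 1, 2, 7, 6, 5, 4], by decide, by decide⟩, ?_, ?_, ?_⟩ <;>
    decide +kernel

theorem pat_three_five : Pat {3, 5} {3, 2, 2} {3, 2, 2} := by
  refine ⟨Fin 8, inferInstance, inferInstance,
    ⟨![1, 2, 0, 4, 5, 6, 7, 3], ![2, 0, 1, 7, 3, 4, 5, 6], by decide, by decide⟩,
    ⟨![0, 2, 1, 4, 6, 7, 3, 5], ![0, 2, 1, 6, 3, 7, 4, 5], by decide, by decide⟩, ?_, ?_, ?_⟩ <;>
    decide +kernel

theorem pat_two_three_four : Pat {2, 3, 4} {3, 2, 2} {3, 2, 2} := by
  refine ⟨Fin 9, inferInstance, inferInstance,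
    ⟨![1, 0, 3, 4, 2, 6, 7, 8, 5], ![1, 0, 4, 2, 3, 8, 5, 6, 7], by decide, by decide⟩,
    ⟨![0, 1, 3, 2, 5, 6, 4, 8, 7], ![0, 1, 3, 2, 6, 4, 5, 8, 7], by decide, by decide⟩, ?_, ?_, ?_⟩ <;>
    decide +kernel

end CfsgLib.AltCover
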