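import Cfsg.Agent.Lib.AltCover.Lift
import Cfsg.Agent.Lib.AltCover.Pattern

/-!
Every element of a perfect double cover of an alternating group is a commutator.
-/

set_option autoImplicit false

namespace CfsgLib.AltCover

open Equiv Multiset

/-- sum of half lengths -/
def halves (μ : Multiset ℕ) : ℕ := (μ.map (fun k => k / 2)).sum

/-- number of even lengths -/
def evens (μ : Multiset ℕ) : ℕ := μ.countP (fun k => k % 2 = 0)

theorem halves_cons (k : ℕ) (μ : Multiset ℕ) : halves (k ::ₘ μ) = k / 2 + halves μ := by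
  simp [halves]

theorem evens_cons (k : ℕ) (μ : Multiset ℕ) :
    evens (k ::ₘ μ) = evens μ + (if k % 2 = 0 then 1 else 0) := by
  rw [evens, countP_cons]; rfl

theorem evens_le {μ : Multiset ℕ} (hpos : ∀ k ∈ μ, 1 ≤ k) : evens μ ≤ halves μ := by
  induction μ using Multiset.induction with
  | empty => simp [evens, halves]
  | cons k ν ih =>
    have := ih fun x hx => hpos x (mem_cons_of_mem hx)
    have := hpos k (mem_cons_self _ _)
    rw [evens_cons, halves_cons]
    split_ifs <;> omega

theorem half_le {μ : Multiset ℕ} (hpos : ∀ k ∈ μ, 1 ≤ k) (he : evens μ % 2 = 0) {T : ℕ}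
    (hT : 2 * T + evens μ = 2 * halves μ) {k : ℕ} (hk : k ∈ μ) : k / 2 ≤ T := by
  obtain ⟨ν, rfl⟩ := exists_cons_of_mem hk
  have := evens_le fun x hx => hpos x (mem_cons_of_mem hx)
  rw [evens_cons, halves_cons] at *
  split_ifs at * <;> omega

theorem reflect (μ : Multiset ℕ) (hpos : ∀ k ∈ μ, 1 ≤ k) (he : evens μ % 2 = 0) :
    ∃ T, Pat μ (replicate T 2) (replicate T 2) ∧ 2 * T + evens μ = 2 * halves μ := by
  induction hc : card μ using Nat.strong_induction_on generalizing μ with
  | _ c ih =>
    subst hc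
    by_cases hodd : ∃ k ∈ μ, k % 2 = 1
    · obtain ⟨k, hk, hko⟩ := hodd
      obtain ⟨ν, rfl⟩ := exists_cons_of_mem hk
      rw [evens_cons, if_neg (by omega), add_zero] at he
      obtain ⟨T, hP, hT⟩ := ih (card ν) (by rw [card_cons]; omega) ν (fun x hx => hpos x (mem_cons_of_mem hx)) he rfl
      by_cases h1 : k = 1
      · subst h1
        refine ⟨T, ?_, by rw [evens_cons, halves_cons]; simp; omega⟩
        have := pat_one.add hP
        rwa [zero_add, singleton_add] at this
      · obtain ⟨r, rfl⟩ : ∃ r, k = 2 * r + 3 := ⟨k / 2 - 1, by omega⟩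
        refine ⟨r + 1 + T, ?_, by rw [evens_cons, halves_cons, if_neg (by omega)]; omega⟩
        have := (pat_odd r).add hP
        rwa [singleton_add, ← replicate_add] at this
    · push Not at hodd
      by_cases h0 : μ = 0
      · subst h0
        exact ⟨0, by simpa using pat_zero, by simp [evens, halves]⟩
      obtain ⟨k, hk⟩ := exists_mem_of_ne_zero h0
      obtain ⟨ν, rfl⟩ := exists_cons_of_mem hk
      have hk2 := hodd k hk
      rw [evens_cons, if_pos (by omega)] at he
      have hν : ν ≠ 0 := fun h => by subst h; simp [evens] at he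
      obtain ⟨l, hl⟩ := exists_mem_of_ne_zero hν
      obtain ⟨ρ, rfl⟩ := exists_cons_of_mem hl
      have hl2 := hodd l (mem_cons_of_mem hl)
      rw [evens_cons, if_pos (by omega)] at he
      obtain ⟨T, hP, hT⟩ := ih (card ρ) (by simp only [card_cons]; omega) ρ
        (fun x hx => hpos x (mem_cons_of_mem (mem_cons_of_mem hx))) (by omega) rfl
      have := hpos k hk
      have := hpos l (mem_cons_of_mem hl)
      obtain ⟨j, rfl⟩ : ∃ j, k = 2 * j + 2 := ⟨k / 2 - 1, by omega⟩
      obtain ⟨i, rfl⟩ : ∃ i, l = 2 * i + 2 := ⟨l / 2 - 1, by omega⟩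
      refine ⟨j + (i + 1) + T, ?_, by rw [evens_cons, evens_cons, halves_cons, halves_cons, if_pos (by omega), if_pos (by omega)]; omega⟩
      have := ((pat_even j).add (pat_even i).symm).add hP
      rwa [singleton_add, cons_add, singleton_add, ← replicate_add, ← replicate_add, ← replicate_add,
        ← replicate_add, show j + 1 + i = j + (i + 1) by omega] at this

/-- an even permutation with two transpositions to conjugate with -/
def Good (μ : Multiset ℕ) : Prop :=
  ∃ A, Pat μ A A ∧ (A.sum + card A) % 2 = 0 ∧ 2 ≤ A.count 2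

theorem good_twos {μ : Multiset ℕ} {T : ℕ} (h : Pat μ (replicate T 2) (replicate T 2)) (h2 : 2 ≤ T)
    (he : T % 2 = 0) : Good μ :=
  ⟨_, h, by rw [sum_replicate, card_replicate, smul_eq_mul]; omega, by rw [count_replicate_self]; exact h2⟩

theorem good_four {μ : Multiset ℕ} {T : ℕ} (h : Pat μ (4 ::ₘ replicate T 2) (4 ::ₘ replicate T 2))
    (h2 : 2 ≤ T) (he : T % 2 = 1) : Good μ :=
  ⟨_, h, by rw [sum_cons, card_cons, sum_replicate, card_replicate, smul_eq_mul]; omega,
    by rw [count_cons_of_ne (by norm_num), count_replicate_self]; exact h2⟩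

theorem small_cases : ∀ S ∈ (Finset.Icc 1 7).powerset, evens S.val % 2 = 0 →
    (2 * halves S.val - evens S.val) % 4 = 2 → 5 ≤ S.val.sum →
    (10 ≤ 2 * halves S.val - evens S.val → ∀ k ∈ S, k ≤ 5) →
    S.val ∈ ([{7}, {1, 7}, {2, 6}, {1, 2, 6}, {3, 5}, {1, 3, 5}, {2, 3, 4}, {1, 2, 3, 4}, {2, 3, 4, 5},
      {1, 2, 3, 4, 5}] : List (Multiset ℕ)) := by
  decide +kernel

theorem good_small {μ : Multiset ℕ}
    (h : μ ∈ ([{7}, {1, 7}, {2, 6}, {1, 2, 6}, {3, 5}, {1, 3, 5}, {2, 3, 4}, {1, 2, 3, 4}, {2, 3, 4, 5},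
      {1, 2, 3, 4, 5}] : List (Multiset ℕ))) : Good μ := by
  obtain ⟨T, hP, hT⟩ := reflect {2, 4} (by decide) (by decide)
  have h24 : T = 2 := by
    rw [show evens {2, 4} = 2 from rfl, show halves {2, 4} = 3 from rfl] at hT
    omega
  subst h24
  have base : ∀ {ν : Multiset ℕ}, Pat ν {3, 2, 2} {3, 2, 2} → Good ν :=
    fun hν => ⟨_, hν, by decide, by decide⟩
  simp only [List.mem_cons, List.mem_nil_iff, or_false] at h
  rcases h with rfl | rfl | rfl | rfl | rfl | rfl | rfl | rfl | rfl | rfl
  · exact base pat_seven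
  · exact base (by simpa using pat_one.add pat_seven)
  · exact base pat_two_six
  · refine base ?_
    have := pat_one.add pat_two_six
    rwa [zero_add, show ({1} : Multiset ℕ) + {2, 6} = {1, 2, 6} by decide] at this
  · exact base pat_three_five
  · refine base ?_
    have := pat_one.add pat_three_five
    rwa [zero_add, show ({1} : Multiset ℕ) + {3, 5} = {1, 3, 5} by decide] at this
  · exact base pat_two_three_four
  · refine base ?_
    have := pat_one.add pat_two_three_four
    rwa [zero_add, show ({1} : Multiset ℕ) + {2, 3, 4} = {1, 2, 3, 4} by decide] at this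
  · refine ⟨{3, 2, 2} + replicate 2 2, ?_, ?_, ?_⟩
    · have := pat_three_five.add hP
      rwa [show ({3, 5} : Multiset ℕ) + {2, 4} = {2, 3, 4, 5} by decide] at this
    · decide
    · decide
  · refine ⟨{3, 2, 2} + replicate 2 2, ?_, ?_, ?_⟩
    · have := (pat_one.add pat_three_five).add hP
      rwa [zero_add, show ({1} : Multiset ℕ) + {3, 5} + {2, 4} = {1, 2, 3, 4, 5} by decide] at this
    · decide
    · decide

theorem good (μ : Multiset ℕ) (hpos : ∀ k ∈ μ, 1 ≤ k) (he : evens μ % 2 = 0) (h5 : 5 ≤ μ.sum) : Good μ := by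
  obtain ⟨T, hP, hT⟩ := reflect μ hpos he
  have hb := fun k (hk : k ∈ μ) => half_le hpos he hT hk
  rcases Nat.eq_zero_or_pos T with rfl | hT0
  · have h1 : ∀ k ∈ μ, k = 1 := fun k hk => by have := hb k hk; have := hpos k hk; omega
    have hμ := eq_replicate_card.2 h1
    rw [hμ, sum_replicate, smul_eq_mul, mul_one] at h5
    obtain ⟨T', hP', hT'⟩ := reflect (replicate (card μ - 4) 1)
      (fun k hk => by rw [eq_of_mem_replicate hk])
      (by rw [evens, countP_eq_zero.2 fun k hk => by rw [eq_of_mem_replicate hk]; decide])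
    have hT0 : T' = 0 := by simp [halves, evens, countP_eq_zero, mem_replicate] at hT'; omega
    subst hT0
    refine good_twos (T := 2) ?_ le_rfl rfl
    have := ((pat_pair 1 le_rfl).add (pat_pair 1 le_rfl)).add hP'
    rw [show replicate 1 2 + replicate 1 2 + replicate 0 2 = replicate 2 2 from rfl,
      show ({1, 1} : Multiset ℕ) = replicate 2 1 from rfl, ← replicate_add, ← replicate_add,
      show 2 + 2 + (card μ - 4) = card μ by omega, ← hμ] at this
    exact this
  by_cases hev : T % 2 = 0
  · exact good_twos hP (by omega) hev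
  by_cases hnd : μ.Nodup
  swap
  · obtain ⟨k, hk⟩ : ∃ k, 2 ≤ μ.count k := by
      by_contra h; push Not at h
      exact hnd (nodup_iff_count_le_one.2 fun a => by have := h a; omega)
    obtain ⟨ν, rfl⟩ := exists_cons_of_mem (count_pos.1 (show 0 < μ.count k by omega))
    rw [count_cons_self] at hk
    obtain ⟨ρ, rfl⟩ := exists_cons_of_mem (count_pos.1 (show 0 < ν.count k by omega))
    rw [evens_cons, evens_cons] at he hT
    rw [halves_cons, halves_cons] at hT
    obtain ⟨T', hP', hT'⟩ := reflect ρ (fun x hx => hpos x (mem_cons_of_mem (mem_cons_of_mem hx)))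
      (by split_ifs at he <;> omega)
    have hk1 := hpos k (mem_cons_self _ _)
    refine good_twos (T := k + T') ?_ ?_ ?_
    · have := (pat_pair k hk1).add hP'
      rwa [← replicate_add, insert_eq_cons, cons_add, singleton_add] at this
    all_goals split_ifs at hT <;> omega
  by_cases hbig : 5 ≤ T ∧ ∃ k ∈ μ, 6 ≤ k
  · obtain ⟨hT5, k, hk, hk6⟩ := hbig
    obtain ⟨ν, rfl⟩ := exists_cons_of_mem hk
    have hposν : ∀ x ∈ ν, 1 ≤ x := fun x hx => hpos x (mem_cons_of_mem hx)
    rw [evens_cons] at he hT
    rw [halves_cons] at hT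
    by_cases hko : k % 2 = 1
    · rw [if_neg (by omega), add_zero] at he hT
      obtain ⟨r, rfl⟩ : ∃ r, k = 2 * r + 7 := ⟨k / 2 - 3, by omega⟩
      obtain ⟨T', hP', hT'⟩ := reflect ν hposν he
      refine good_four (T := r + 1 + T') ?_ (by omega) (by omega)
      have := (pat_odd_flip r).add hP'
      rwa [singleton_add, cons_add, ← replicate_add] at this
    · rw [if_pos (by omega)] at he hT
      obtain ⟨l, hl, hl2⟩ := countP_pos.1 (show 0 < evens ν by omega)
      obtain ⟨ρ, rfl⟩ := exists_cons_of_mem hl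
      have := hposν l (mem_cons_self _ _)
      rw [evens_cons, if_pos hl2] at he hT
      rw [halves_cons] at hT
      obtain ⟨T', hP', hT'⟩ := reflect ρ (fun x hx => hposν x (mem_cons_of_mem hx)) (by omega)
      obtain ⟨j, rfl⟩ : ∃ j, k = 2 * j + 6 := ⟨k / 2 - 3, by omega⟩
      obtain ⟨i, rfl⟩ : ∃ i, l = 2 * i + 2 := ⟨l / 2 - 1, by omega⟩
      refine good_four (T := j + (i + 1) + T') ?_ (by omega) (by omega)
      have := ((pat_even_flip j).add (pat_even i).symm).add hP'
      simp only [singleton_add, cons_add, ← replicate_add] at this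
      rwa [show j + 1 + i + T' = j + (i + 1) + T' by omega] at this
  have h7 : ∀ k ∈ μ, k ≤ 7 := fun k hk => by
    by_contra h
    have := hb k hk
    refine hbig ⟨?_, k, hk, by omega⟩
    omega
  refine good_small (small_cases ⟨μ, hnd⟩ ?_ he ?_ h5 ?_)
  · rw [Finset.mem_powerset]
    intro k hk
    exact Finset.mem_Icc.2 ⟨hpos k hk, h7 k hk⟩
  · show (2 * halves μ - evens μ) % 4 = 2
    omega
  · intro h10 k hk
    change 10 ≤ 2 * halves μ - evens μ at h10
    by_contra h
    exact hbig ⟨by omega, k, hk, by omega⟩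

theorem exists_conjugator {n : ℕ} (hn : 5 ≤ n) (g : alternatingGroup (Fin n)) :
    ∃ (π α : alternatingGroup (Fin n)) (i j k l : Fin n), [i, j, k, l].Nodup ∧
      (α : Perm (Fin n)) i = j ∧ (α : Perm (Fin n)) j = i ∧ (α : Perm (Fin n)) k = l ∧
      (α : Perm (Fin n)) l = k ∧ g = π * α * π⁻¹ * α⁻¹ := by
  classical
  set s : Perm (Fin n) := (g : Perm (Fin n))
  have hs : Perm.sign s = 1 := g.2
  have hmem : ∀ k ∈ parts s, 1 ≤ k := fun k hk => by
    rw [parts, mem_add] at hk
    rcases hk with hk | hk
    · exact (Perm.two_le_of_mem_cycleType hk).trans' one_le_two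
    · rw [eq_of_mem_replicate hk]
  have hsum : (parts s).sum = n := by
    have := s.support.card_le_univ
    rw [parts, sum_add, Perm.sum_cycleType, sum_replicate, smul_eq_mul, mul_one, Fintype.card_fin] at *
    omega
  have hev : evens (parts s) % 2 = 0 := by
    have key : ∀ μ : Multiset ℕ, evens μ % 2 = (μ.sum + card μ) % 2 := by
      intro μ
      induction μ using Multiset.induction with
      | empty => rfl
      | cons k ν ih => rw [evens_cons, sum_cons, card_cons]; split_ifs <;> omega
    rw [key, parts, sum_add, card_add, sum_replicate, card_replicate, smul_eq_mul, mul_one]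
    rw [Perm.sign_of_cycleType] at hs
    have : Even (s.cycleType.sum + card s.cycleType) := by
      rwa [neg_one_pow_eq_one_iff_even (by decide)] at hs
    rw [Nat.even_iff] at this
    omega
  obtain ⟨A, ⟨T, _, _, σ, a, hσ, ha, hb⟩, hpar, hcnt⟩ := good (parts s) hmem hev (by omega)
  have hcard : Fintype.card T = n := by
    have h1 := congrArg Multiset.sum hσ
    have := σ.support.card_le_univ
    rw [hsum, parts, sum_add, Perm.sum_cycleType, sum_replicate, smul_eq_mul, mul_one] at h1
    omega
  let e : T ≃ Fin n := Fintype.equivFinOfCardEq hcard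
  let f : T ≃ Subtype (fun _ : Fin n => True) := e.trans (Equiv.subtypeUnivEquiv fun _ => trivial).symm
  have hperm : ∀ x : Perm T, (e.permCongr x).cycleType = x.cycleType := fun x => by
    have : e.permCongr x = x.extendDomain f := by
      ext y
      obtain ⟨z, rfl⟩ := e.surjective y
      rw [Equiv.permCongr_apply, e.symm_apply_apply, show e z = (f z : Fin n) from rfl,
        Perm.extendDomain_apply_image]
      rfl
    rw [this, Perm.cycleType_extendDomain]
  have hconj : IsConj (e.permCongr σ) s := by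
    refine Perm.isConj_of_cycleType_eq ?_
    rw [hperm]
    have := congrArg (Multiset.filter (fun k => 2 ≤ k)) hσ
    simp only [parts, filter_add] at this
    rwa [filter_eq_self.2 fun x hx => Perm.two_le_of_mem_cycleType hx,
      filter_eq_self.2 fun x hx => Perm.two_le_of_mem_cycleType hx,
      filter_eq_nil.2 fun x hx => by rw [eq_of_mem_replicate hx]; omega,
      filter_eq_nil.2 fun x hx => by rw [eq_of_mem_replicate hx]; omega, add_zero, add_zero] at this
  obtain ⟨c, hc⟩ := isConj_iff.1 hconj
  let α : Perm (Fin n) := c * e.permCongr a * c⁻¹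
  have hα : α.cycleType = A := by rw [Perm.cycleType_conj, hperm, ha]
  have hsα : (s * α).cycleType = A := by
    rw [← hc, show c * e.permCongr σ * c⁻¹ * α = c * (e.permCongr σ * e.permCongr a) * c⁻¹ by
      simp only [α]; group, Perm.cycleType_conj,
      show e.permCongr σ * e.permCongr a = e.permCongr (σ * a) by ext x; simp [Equiv.permCongr_apply],
      hperm, hb]
  obtain ⟨π, hπ⟩ := isConj_iff.1 (Perm.isConj_of_cycleType_eq (hα.trans hsα.symm))
  -- two transpositions
  rw [← hα, Perm.cycleType_def, count_map] at hcnt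
  obtain ⟨x, hx, y, hy, hxy⟩ := (Finset.one_lt_card
    (s := α.cycleFactorsFinset.filter fun p => 2 = (Finset.card ∘ Perm.support) p)).1 hcnt
  rw [Finset.mem_filter] at hx hy
  obtain ⟨i, j, hij, rfl⟩ := Perm.card_support_eq_two.1 hx.2.symm
  obtain ⟨k, l, hkl, rfl⟩ := Perm.card_support_eq_two.1 hy.2.symm
  have hd := α.cycleFactorsFinset_pairwise_disjoint hx.1 hy.1 hxy
  have h1 := (Perm.mem_cycleFactorsFinset_iff.1 hx.1).2
  have h2 := (Perm.mem_cycleFactorsFinset_iff.1 hy.1).2
  rw [Perm.support_swap hij] at h1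
  rw [Perm.support_swap hkl] at h2
  have ai : α i = j := by rw [← h1 i (by simp), swap_apply_left]
  have aj : α j = i := by rw [← h1 j (by simp), swap_apply_right]
  have ak : α k = l := by rw [← h2 k (by simp), swap_apply_left]
  have al : α l = k := by rw [← h2 l (by simp), swap_apply_right]
  have hnd : [i, j, k, l].Nodup := by
    have hd' := Perm.Disjoint.disjoint_support hd
    rw [Perm.support_swap hij, Perm.support_swap hkl] at hd'
    simp [Finset.disjoint_left] at hd'
    simp [hij, hkl, hd'.1.1, hd'.1.2, hd'.2.1, hd'.2.2]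
  have hαe : Perm.sign α = 1 := by
    rw [Perm.sign_of_cycleType, hα]
    exact (Nat.even_iff.2 hpar).neg_one_pow
  have hπ' : ∃ π' : Perm (Fin n), Perm.sign π' = 1 ∧ π' * α * π'⁻¹ = s * α := by
    rcases Int.units_eq_one_or (Perm.sign π) with h | h
    · exact ⟨π, h, hπ⟩
    · refine ⟨π * swap i j, by rw [map_mul, h, Perm.sign_swap hij]; rfl, ?_⟩
      have : swap i j * α * swap i j = α := by
        rw [← Equiv.swap_inv i j]
        nth_rw 1 [Equiv.swap_inv]
        rw [mul_inv_eq_iff_eq_mul, mul_swap_eq_swap_mul, ai, aj, swap_comm]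
      rw [mul_inv_rev, Equiv.swap_inv, ← hπ, show π * swap i j * α * (swap i j * π⁻¹) =
        π * (swap i j * α * swap i j) * π⁻¹ by group, this]
  obtain ⟨π', hπe, hπ'⟩ := hπ'
  refine ⟨⟨π', hπe⟩, ⟨α, hαe⟩, i, j, k, l, hnd, ai, aj, ak, al, ?_⟩
  apply Subtype.ext
  show s = π' * α * π'⁻¹ * α⁻¹
  rw [hπ', mul_inv_cancel_right]

/-- every element of a perfect double cover of an alternating group is a commutator -/
theorem forall_commutator {G : Type*} [Group G] [Finite G] (hperf : commutator G = ⊤) {n : ℕ} (hn : 5 ≤ n)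
    (hZ : Nat.card (Subgroup.center G) = 2) (e : G ⧸ Subgroup.center G ≃* alternatingGroup (Fin n))
    (g : G) : ∃ a b : G, a * b * a⁻¹ * b⁻¹ = g := by
  obtain ⟨m, rfl⟩ : ∃ m, n = m + 2 := ⟨n - 2, by omega⟩
  let φ : G →* alternatingGroup (Fin (m + 2)) := e.toMonoidHom.comp (QuotientGroup.mk' (Subgroup.center G))
  have hker : φ.ker = Subgroup.center G := by
    ext x
    simp [φ]
  have hd : IsDouble φ := ⟨e.surjective.comp (QuotientGroup.mk'_surjective _), hker.le, by rw [hker, hZ]⟩
  obtain ⟨π, α, i, j, k, l, hnd, hi, hj, hk, hl, h⟩ := exists_conjugator hn (φ g)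
  exact lifts_commutators hd hperf (by omega) hnd hi hj hk hl h

end CfsgLib.AltCover
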